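import Groth.Agent.Lefpen.H723.P1Pt
import Groth.Agent.Ega43.DedekindOpen
import Groth.Agent.Sga5.ProjConn

/-!
# Flatness over the projective line

* `stalk_pid`: the local rings of `P^1_k` are principal ideal domains.
* `flat_of_genericPoint`: an integral scheme whose generic point is mapped to the generic point of `P^1_k` is flat
  over `P^1_k`.
-/

set_option autoImplicit false
universe u
open CategoryTheory CategoryTheory.Limits AlgebraicGeometry Opposite

namespace Groth.Agent.Lefpen.H723.P1Flat

open Groth.Agent.Sga5

theorem isPrincipalIdealRing_of_isLocalization {R S : Type*} [CommRing R] [CommRing S] [Algebra R S]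
    (M : Submonoid R) [IsLocalization M S] [IsPrincipalIdealRing R] : IsPrincipalIdealRing S := by
  refine ⟨fun J => ?_⟩
  obtain ⟨x, hx⟩ := (IsPrincipalIdealRing.principal (J.under R)).principal
  refine ⟨algebraMap R S x, ?_⟩
  have h := IsLocalization.map_under M S J
  have hx' : J.under R = Ideal.span {x} := hx
  rw [hx', Ideal.map_span, Set.image_singleton] at h
  exact h.symm

theorem stalk_spec_of_pid (R : Type u) [CommRing R] [IsDomain R] [IsPrincipalIdealRing R]
    (p : Spec (CommRingCat.of R)) :
    IsDomain ((Spec (CommRingCat.of R)).presheaf.stalk p) ∧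
      IsPrincipalIdealRing ((Spec (CommRingCat.of R)).presheaf.stalk p) := by
  have h2 : IsPrincipalIdealRing (Localization.AtPrime p.asIdeal) :=
    isPrincipalIdealRing_of_isLocalization p.asIdeal.primeCompl
  have h3 : IsDomain (Localization.AtPrime p.asIdeal) := inferInstance
  let e2 := (StructureSheaf.stalkIso R p).toRingEquiv
  refine ⟨e2.symm.toMulEquiv.isDomain, ?_⟩
  exact IsPrincipalIdealRing.of_surjective e2.toRingHom e2.surjective

variable (k : Type u) [Field k]

theorem stalk_spec (z : Spec (CommRingCat.of (MvPolynomial (Fin 1) k))) :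
    IsDomain ((Spec (CommRingCat.of (MvPolynomial (Fin 1) k))).presheaf.stalk z) ∧
      IsPrincipalIdealRing ((Spec (CommRingCat.of (MvPolynomial (Fin 1) k))).presheaf.stalk z) := by
  have e : MvPolynomial (Fin 1) k ≃+* Polynomial k :=
    (MvPolynomial.uniqueAlgEquiv k (Fin 1)).toRingEquiv
  have : IsPrincipalIdealRing (MvPolynomial (Fin 1) k) :=
    IsPrincipalIdealRing.of_surjective e.symm.toRingHom e.symm.surjective
  exact stalk_spec_of_pid _ z

/-- The local rings of the projective line are principal ideal domains. -/
theorem stalk_pid (y : CohB1.ProjSpace 1 k) :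
    IsDomain ((CohB1.ProjSpace 1 k).presheaf.stalk y) ∧
      IsPrincipalIdealRing ((CohB1.ProjSpace 1 k).presheaf.stalk y) := by
  obtain ⟨j, z, rfl⟩ := ProjSmooth.exists_mem_chart 1 k y
  obtain ⟨h1, h2⟩ := stalk_spec k z
  let e := (asIso ((ProjSmooth.chart 1 k j).stalkMap z)).commRingCatIsoToRingEquiv
  refine ⟨e.toMulEquiv.isDomain, ?_⟩
  exact IsPrincipalIdealRing.of_surjective e.symm.toRingHom e.symm.surjective

open Groth.Agent.Ega43.MaxPoints in
/-- An integral scheme dominating the projective line is flat over it. -/
theorem flat_of_genericPoint {Y : Scheme.{u}} [IsIntegral Y] (f : Y ⟶ CohB1.ProjSpace 1 k)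
    (h : ∀ z, z ⤳ f (genericPoint Y) → z = f (genericPoint Y)) : Flat f := by
  refine Groth.Agent.Ega43.DedekindOpen.flat_of_isMaxPt f (stalk_pid k) ?_
  intro w hw
  have h1 : genericPoint Y = w := hw _ (genericPoint_specializes w)
  rw [← h1]
  exact h

end Groth.Agent.Lefpen.H723.P1Flat
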