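import Groth.Agent.Lefpen.H723.PencilGeom
import Groth.Agent.Lefpen.H723.P1Flat
import Groth.Agent.Lefpen.H703.ClosedSmooth

/-!
# Flatness and smoothness of a pencil

With the notation of `PencilGeom`:

* `exists_fibre`: every closed point of `P^1_k` is `t = c` or `t = ∞`, and the corresponding fibre of `ρ` is the member;
* `rho_genericPoint`, `flat_rho`: `ρ` is dominant and flat as soon as no member is all of `X`
  (`members_ne_bot`: true for Lefschetz pencils);
* `mem_smoothLocus_iff`: `ρ` is smooth at a point of a fibre iff the member is smooth over `k` there;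
* `smooth_rho`: `ρ` is smooth if all the members are transversal.
-/

set_option autoImplicit false
universe u
open CategoryTheory AlgebraicGeometry Limits TopologicalSpace Opposite

namespace Groth.Agent.Lefpen.H723.PencilSmooth

open LefPen Groth.Agent.Lefpen.H723.P1Pt Groth.Agent.Lefpen.H723.PencilGeom

variable {k : Type u} [Field k] {r n d : ℕ} {X X' : Scheme.{u}} {i : X ⟶ CohB1.ProjSpace r k}
  {F G : Form r k d} {b : X' ⟶ X} {ρ : X' ⟶ CohB1.ProjSpace 1 k}

theorem range_pt (j : Fin (1 + 1)) (c : k) : Set.range (pt j c) = ((hypIdeal (lin j c)).support : Set _) := by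
  rw [← ker_pt, Scheme.Hom.support_ker]
  exact ((pt j c).isClosedEmbedding.isClosed_range.closure_eq).symm

/-- Points of a fibre. -/
theorem mem_range_iff {Y Z : Scheme.{u}} {m : Z ⟶ Y} {s : Z ⟶ Spec (CommRingCat.of k)}
    {f : Y ⟶ CohB1.ProjSpace 1 k} {j : Fin (1 + 1)} {c : k} (h : IsPullback m s f (pt j c)) (y : Y) :
    y ∈ Set.range m ↔ f y ∈ (hypIdeal (lin j c)).support := by
  have h1 : Set.range m = f ⁻¹' Set.range (pt j c) := by
    rw [← Scheme.Pullback.range_fst]
    ext z
    constructor
    · rintro ⟨w, rfl⟩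
      exact ⟨h.isoPullback.hom w, by rw [← Scheme.Hom.comp_apply, h.isoPullback_hom_fst]⟩
    · rintro ⟨w, rfl⟩
      exact ⟨h.isoPullback.inv w, by rw [← Scheme.Hom.comp_apply, h.isoPullback_inv_fst]⟩
  rw [h1, range_pt]
  rfl

variable [IsAlgClosed k]

/-- Every closed point of the line is a rational point, with fibre a member of the pencil. -/
theorem exists_fibre (hρ : LefMon.IsPencilFibration i F G b ρ) (p : CohB1.ProjSpace 1 k)
    (hp : IsClosed ({p} : Set (CohB1.ProjSpace 1 k))) :
    ∃ (H : Form r k d) (_ : H ∈ members k F G) (j : Fin (1 + 1)) (c : k) (m : Sec i {H} ⟶ X'),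
      m ≫ b = secι i {H} ∧ IsPullback m (secToSpec i {H}) ρ (pt j c) ∧
      (∀ y : X', y ∈ Set.range m ↔ ρ y = p) := by
  have key : ∀ (j : Fin (1 + 1)) (c : k), p ∈ (hypIdeal (lin j c)).support →
      ∀ q, q ∈ (hypIdeal (lin j c)).support ↔ q = p := by
    intro j c hpc q
    constructor
    · intro hq
      have h1 : q ∈ Set.range (pt j c) := by rw [range_pt]; exact hq
      have h2 : p ∈ Set.range (pt j c) := by rw [range_pt]; exact hpc
      obtain ⟨a, rfl⟩ := h1
      obtain ⟨a', rfl⟩ := h2
      rw [Subsingleton.elim a a']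
    · rintro rfl
      exact hpc
  rcases P1Closed.exists_mem_support p hp with ⟨c, hc⟩ | hc
  · obtain ⟨m, h1, h2⟩ := isPullback_line hρ c
    rw [fieldPt_eq] at h2
    rw [line_eq] at hc
    exact ⟨F + c • G, Or.inr ⟨c, rfl⟩, 0, c, m, h1, h2, fun y => (mem_range_iff h2 y).trans (key 0 c hc _)⟩
  · obtain ⟨m, h1, h2⟩ := isPullback_lineInf hρ
    rw [lineInf_eq] at hc
    exact ⟨G, Or.inl rfl, 1, 0, m, h1, h2, fun y => (mem_range_iff h2 y).trans (key 1 0 hc _)⟩

omit [IsAlgClosed k] in
/-- A member of a Lefschetz pencil is not all of `X`. -/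
theorem members_ne_bot [Nonempty X] [SmoothOfRelativeDimension n (i ≫ CohB1.ProjSpace.toSpec r k)]
    (hL : IsLefschetzPencil k n i d F G) (H : Form r k d) (hH : H ∈ members k F G) :
    secIdeal i {H} ≠ ⊥ := by
  by_cases hT : Transversal k n 1 (secToSpec i {H})
  · exact secIdeal_ne_bot i _ 1 le_rfl hT
  · obtain ⟨y, hy, -⟩ := hL.2.2.2 H hH hT
    intro h0
    have h1 : IsIso (secι i {H}) := (Scheme.isIso_subschemeι_iff_eq_bot _).2 h0
    have h2 : Smooth (i ≫ CohB1.ProjSpace.toSpec r k) := SmoothOfRelativeDimension.smooth n _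
    have h3 : Smooth (secToSpec i {H}) := inferInstance
    have h4 : y ∈ {y' | SmoothAt (secToSpec i {H}) y'} := by
      have h5 : y ∈ (secToSpec i {H}).smoothLocus := by
        rw [Scheme.Hom.smoothLocus_eq_top]
        trivial
      exact h5
    rw [hy] at h4
    exact h4 rfl

variable [IrreducibleSpace X] [SmoothOfRelativeDimension n (i ≫ CohB1.ProjSpace.toSpec r k)]

/-- The projection of a pencil is dominant. -/
theorem rho_genericPoint (hT : Transversal k n 2 (secToSpec i {F, G}))
    (hne : ∀ H ∈ members k F G, secIdeal i {H} ≠ ⊥)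
    (hρ : LefMon.IsPencilFibration i F G b ρ) [IsIntegral X'] :
    ρ (genericPoint X') = Groth.Agent.Sga5.ProjConn.genPt 1 k := by
  rcases Groth.Agent.Sga4h.BidGeoP1.eq_genPt_or_isClosed k (ρ (genericPoint X')) with h | h
  · exact h
  · exfalso
    obtain ⟨H, hH, j, c, m, hm, hpb, hr⟩ := exists_fibre hρ _ h
    have h1 : IsClosedImmersion m := MorphismProperty.of_isPullback hpb.flip inferInstance
    have h2 : Surjective m := by
      have h3 : genericPoint X' ∈ Set.range m := (hr _).2 rfl
      refine ⟨fun x => ?_⟩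
      have h4 : IsClosed (Set.range m) := m.isClosedEmbedding.isClosed_range
      exact (genericPoint_specializes x).mem_closed h4 h3
    have h3 : IsIso m := isIso_of_isClosedImmersion_of_surjective m
    have h4 : Surjective (secι i {H}) := by
      have := isIntegral_base (n := n) i
      have h5 : genericPoint X ∈ Set.range (secι i {H}) := by
        rw [← b_genericPoint (n := n) hT hρ]
        refine ⟨(inv m) (genericPoint X'), ?_⟩
        rw [← hm, ← Scheme.Hom.comp_apply, IsIso.inv_hom_id_assoc]
      refine ⟨fun x => ?_⟩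
      have h4 : IsClosed (Set.range (secι i {H})) := (secι i {H}).isClosedEmbedding.isClosed_range
      exact (genericPoint_specializes x).mem_closed h4 h5
    have h5 : IsReduced X := isReduced_base (n := n) i
    have h6 : IsIso (secι i {H}) := isIso_of_isClosedImmersion_of_surjective _
    exact hne H hH ((Scheme.isIso_subschemeι_iff_eq_bot _).1 h6)

/-- The projection of a pencil is flat. -/
theorem flat_rho (hT : Transversal k n 2 (secToSpec i {F, G}))
    (hne : ∀ H ∈ members k F G, secIdeal i {H} ≠ ⊥)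
    (hρ : LefMon.IsPencilFibration i F G b ρ) : Flat ρ := by
  have h0 := isIntegral_total hT hρ
  refine P1Flat.flat_of_genericPoint k ρ ?_
  rw [rho_genericPoint (n := n) hT hne hρ]
  intro z hz
  exact (hz.antisymm (Groth.Agent.Sga4h.BidGeoP1.genPt_specializes k 1 z)).eq

theorem flat_rho_of_isLefschetzPencil (hL : IsLefschetzPencil k n i d F G)
    (hρ : LefMon.IsPencilFibration i F G b ρ) : Flat ρ :=
  flat_rho hL.2.1 (members_ne_bot hL) hρ

omit [IsAlgClosed k] [IrreducibleSpace X] [SmoothOfRelativeDimension n (i ≫ CohB1.ProjSpace.toSpec r k)] in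
theorem locallyOfFinitePresentation_rho [IsClosedImmersion i] (hρ : LefMon.IsPencilFibration i F G b ρ) :
    LocallyOfFinitePresentation ρ := by
  have := isProper_rho hρ
  have h1 : IsLocallyNoetherian (CohB1.ProjSpace 1 k) :=
    LocallyOfFiniteType.isLocallyNoetherian (CohB1.ProjSpace.toSpec 1 k)
  infer_instance

omit [IsAlgClosed k] [IrreducibleSpace X] [SmoothOfRelativeDimension n (i ≫ CohB1.ProjSpace.toSpec r k)] in
/-- `ρ` is smooth at a point of a fibre iff the fibre is smooth over `k` there. -/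
theorem mem_smoothLocus_iff [LocallyOfFinitePresentation ρ] [Flat ρ] {Z : Scheme.{u}} {m : Z ⟶ X'}
    {s : Z ⟶ Spec (CommRingCat.of k)} {j : Fin (1 + 1)} {c : k} (h : IsPullback m s ρ (pt j c)) (z : Z) :
    SmoothAt s z ↔ m z ∈ ρ.smoothLocus := by
  have : LocallyOfFinitePresentation s := MorphismProperty.of_isPullback h inferInstance
  exact Groth.Agent.Smoothlim.SmoothLocusBC.mem_smoothLocus_iff_of_isPullback h z
    (Or.inl (Flat.stalkMap ρ (m z)))

/-- If all the members are transversal then `ρ` is smooth. -/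
theorem smooth_rho [IsClosedImmersion i] (hT : Transversal k n 2 (secToSpec i {F, G}))
    (hρ : LefMon.IsPencilFibration i F G b ρ)
    (hall : ∀ H ∈ members k F G, Transversal k n 1 (secToSpec i {H})) : Smooth ρ := by
  have h0 := isProper_rho hρ
  have h1 := locallyOfFinitePresentation_rho hρ
  have h2 : Flat ρ := flat_rho (n := n) hT (fun H hH => secIdeal_ne_bot i _ 1 le_rfl (hall H hH)) hρ
  rw [← Scheme.Hom.smoothLocus_eq_top_iff]
  have h3 : LocallyOfFiniteType (ρ ≫ CohB1.ProjSpace.toSpec 1 k) := inferInstance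
  refine H703.ClosedSmooth.opens_eq_top (ρ ≫ CohB1.ProjSpace.toSpec 1 k) _ ?_
  intro x hx
  have h4 : IsClosed ({ρ x} : Set (CohB1.ProjSpace 1 k)) := by
    have := ρ.isClosedMap _ hx
    rwa [Set.image_singleton] at this
  obtain ⟨H, hH, j, c, m, hm, hpb, hr⟩ := exists_fibre hρ _ h4
  obtain ⟨z, rfl⟩ := (hr x).2 rfl
  rw [← mem_smoothLocus_iff hpb]
  rcases hall H hH with ⟨-, h⟩ | ⟨-, h⟩
  · have h5 : Smooth (secToSpec i {H}) := SmoothOfRelativeDimension.smooth (n - 1) _
    have h6 : z ∈ (secToSpec i {H}).smoothLocus := by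
      rw [Scheme.Hom.smoothLocus_eq_top]
      trivial
    exact h6
  · exact (h.false z).elim

end Groth.Agent.Lefpen.H723.PencilSmooth
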