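import Groth.Agent.Lefpen.H705.ChartPoly
import Groth.Prelude.Def_LefMon
import Groth.Agent.Ega3B.ProjProper

/-!
# Rational points of the projective line as closed subschemes cut out by linear forms

* `pt j c : Spec k ⟶ P^1_k`: the point with coordinate `T_{j'} / T_j = c` in the chart `D_+(T_j)`;
* `lin j c = T_{j'} - c T_j`; `fieldPt_eq`: `LefMon.fieldPt k k c = pt 0 c`; `line_eq`, `lineInf_eq`.
* `fieldPt_eq_chart`: `LefMon.fieldPt k K c` factors through the chart `0` as evaluation at `c`.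
-/

set_option autoImplicit false
universe u
open CategoryTheory AlgebraicGeometry Limits TopologicalSpace Opposite

namespace Groth.Agent.Lefpen.H723.P1Pt

open LefPen Groth.Agent.Divis.IdealComap Groth.Agent.Fdesc.LocGen Groth.Agent.Lefpen.H705.HypIdeal
open Groth.Agent.Lefpen.H705.SecIdeal Groth.Agent.Lefpen.H705.ChartPoly
open Groth.Agent.Sga5

variable {k : Type u} [Field k]

section FieldPt

variable {K : Type u} [Field K] [Algebra k K]

theorem chartToField_ofPoly (c : K) (p : MvPolynomial (Fin 1) k) :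
    LefMon.chartToField k K c (ProjChart.ofPoly 1 k 0 p) = MvPolynomial.aeval (fun _ : Fin 1 => c) p := by
  have h : (LefMon.chartToField k K c).comp (ProjChart.ofPoly 1 k 0) =
      (MvPolynomial.aeval (fun _ : Fin 1 => c)).toRingHom := by
    apply MvPolynomial.ringHom_ext
    · intro a
      simp only [RingHom.comp_apply, ProjChart.ofPoly, MvPolynomial.coe_eval₂Hom, MvPolynomial.eval₂_C]
      rw [LefMon.chartToField, RingHom.comp_apply]
      rw [HomogeneousLocalization.algebraMap_apply, ProjChart.val_chartC]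
      rw [IsLocalization.Away.lift_eq]
      simp
    · intro j
      simp only [RingHom.comp_apply, ProjChart.ofPoly, MvPolynomial.coe_eval₂Hom, MvPolynomial.eval₂_X]
      rw [LefMon.chartToField, RingHom.comp_apply, HomogeneousLocalization.algebraMap_apply]
      have h := congrArg (IsLocalization.Away.lift (S := Localization.Away (MvPolynomial.X (R := k) (0 : Fin (1 + 1))))
        (MvPolynomial.X (R := k) (0 : Fin (1 + 1)))
        (g := (MvPolynomial.aeval (Fin.cons 1 (fun _ => c) : Fin (1 + 1) → K)).toRingHom)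
        (by simp)) (ProjChart.val_coord_mul 1 k 0 ((0 : Fin (1 + 1)).succAbove j))
      rw [map_mul, IsLocalization.Away.lift_eq, IsLocalization.Away.lift_eq] at h
      refine Eq.trans ?_ (h.trans ?_)
      · simp
      · simp
  exact congr($h p)

/-- The field-valued point with coordinate `c` factors through the chart `D_+(T_0)`. -/
theorem fieldPt_eq_chart (c : K) : LefMon.fieldPt k K c =
    Spec.map (CommRingCat.ofHom (MvPolynomial.aeval (R := k) (fun _ : Fin 1 => c)).toRingHom) ≫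
      ProjSmooth.chart 1 k 0 := by
  have h : CommRingCat.ofHom (LefMon.chartToField k K c) =
      CommRingCat.ofHom (ProjChart.chartEquiv 1 k 0).symm.toRingHom ≫
        CommRingCat.ofHom (MvPolynomial.aeval (R := k) (fun _ : Fin 1 => c)).toRingHom := by
    apply CommRingCat.hom_ext
    apply RingHom.ext
    intro x
    obtain ⟨p, rfl⟩ := (ProjChart.chartEquiv 1 k 0).surjective x
    refine (chartToField_ofPoly c p).trans ?_
    change _ = (MvPolynomial.aeval (fun _ : Fin 1 => c))
      ((ProjChart.chartEquiv 1 k 0).symm (ProjChart.chartEquiv 1 k 0 p))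
    rw [RingEquiv.symm_apply_apply]
  rw [LefMon.fieldPt, h, Spec.map_comp]
  exact Category.assoc _ _ _

end FieldPt

/-- The point with coordinate `c` in the chart `j`. -/
noncomputable def pt (j : Fin (1 + 1)) (c : k) : Spec (CommRingCat.of k) ⟶ CohB1.ProjSpace 1 k :=
  Spec.map (CommRingCat.ofHom (MvPolynomial.eval (fun _ : Fin 1 => c))) ≫ ProjSmooth.chart 1 k j

/-- The linear form `T_{j'} - c T_j`. -/
noncomputable def lin (j : Fin (1 + 1)) (c : k) : Form 1 k 1 :=
  ⟨MvPolynomial.X (j.succAbove 0), LefPen.X_mem 1 k _⟩ - c • ⟨MvPolynomial.X j, LefPen.X_mem 1 k j⟩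

theorem line_eq (c : k) : LefMon.line k c = lin 0 c := rfl

theorem lineInf_eq : LefMon.lineInf k = lin 1 (0 : k) := by
  rw [lin, zero_smul, sub_zero]
  rfl

theorem pt_toSpec (j : Fin (1 + 1)) (c : k) : pt j c ≫ CohB1.ProjSpace.toSpec 1 k = 𝟙 _ := by
  rw [pt, Category.assoc, ProjSmooth.chart_toSpec, ← Spec.map_comp, ← CommRingCat.ofHom_comp]
  have : (MvPolynomial.eval (fun _ : Fin 1 => c)).comp MvPolynomial.C = RingHom.id k := by
    ext x; simp
  rw [this]
  exact Spec.map_id _

theorem fieldPt_eq (c : k) : LefMon.fieldPt k k c = pt 0 c := by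
  rw [fieldPt_eq_chart, pt]
  congr 3

theorem dehom_lin_val (j : Fin (1 + 1)) (c : k) :
    ProjChart.dehom 1 k j (lin j c).1 = MvPolynomial.X 0 - MvPolynomial.C c := by
  have h : (lin j c).1 = MvPolynomial.X (j.succAbove 0) - c • MvPolynomial.X j := rfl
  rw [h, MvPolynomial.smul_eq_C_mul, map_sub, map_mul, ProjChart.dehom_C, ProjChart.dehom_X_self,
    ProjChart.dehom_X, mul_one]

/-- The preimage of a standard chart under another chart. -/
theorem chart_preimage (i j : Fin (1 + 1)) (hij : i.succAbove 0 = j) :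
    (ProjSmooth.chart 1 k i) ⁻¹ᵁ (LefPen.chart 1 k j) =
      PrimeSpectrum.basicOpen (MvPolynomial.X 0 : MvPolynomial (Fin 1) k) := by
  have h1 := Proj.awayι_preimage_basicOpen (CohB1.polyGrading 1 k) (LefPen.X_mem 1 k i) Nat.one_pos
    (LefPen.X_mem 1 k j) Nat.one_pos
  have h2 : (ProjSmooth.chart 1 k i) ⁻¹ᵁ (LefPen.chart 1 k j) =
      Spec.map (CommRingCat.ofHom (ProjChart.chartEquiv 1 k i).symm.toRingHom) ⁻¹ᵁ
        ((Proj.awayι (CohB1.polyGrading 1 k) (MvPolynomial.X i) (LefPen.X_mem 1 k i) Nat.one_pos) ⁻¹ᵁ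
          (Proj.basicOpen (CohB1.polyGrading 1 k) (MvPolynomial.X j))) := rfl
  rw [h2, h1, SpecMap_preimage_basicOpen]
  congr 1
  change (ProjChart.chartEquiv 1 k i).symm _ = _
  rw [RingEquiv.symm_apply_eq, ProjChart.chartEquiv_X]
  apply HomogeneousLocalization.val_injective
  rw [ProjChart.coord, HomogeneousLocalization.Away.val_mk, HomogeneousLocalization.Away.val_mk]
  subst hij
  simp

/-- The point cut out by `lin j c` lies in the chart `j`. -/
theorem mem_chart_of_mem_support (j : Fin (1 + 1)) (c : k) (x : CohB1.ProjSpace 1 k)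
    (hx : x ∈ (hypIdeal (lin j c)).support) : x ∈ LefPen.chart 1 k j := by
  by_contra hj
  obtain ⟨i, hi⟩ := Groth.Agent.PerfB.ProjSpaceCover.exists_mem_basicOpen_X 1 k x
  replace hi : x ∈ LefPen.chart 1 k i := hi
  have hij : i ≠ j := fun h => hj (h ▸ hi)
  have hi0 : j.succAbove 0 = i := by
    revert hij
    fin_cases i <;> fin_cases j <;> simp
  have hj0 : i.succAbove 0 = j := by
    revert hij
    fin_cases i <;> fin_cases j <;> simp
  have hxr : x ∈ (ProjSmooth.chart 1 k i).opensRange := by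
    rw [ProjSmooth.opensRange_chart]; exact hi
  obtain ⟨z, hz⟩ := hxr
  have h1 : z ∉ (ProjSmooth.chart 1 k i) ⁻¹ᵁ (LefPen.chart 1 k j) := by
    intro h
    apply hj
    rw [← hz]
    exact h
  rw [chart_preimage i j hj0] at h1
  let I : Ideal (MvPolynomial (Fin 1) k) := PrimeSpectrum.asIdeal z
  have hI : I.IsPrime := PrimeSpectrum.isPrime z
  have h1' : (MvPolynomial.X 0 : MvPolynomial (Fin 1) k) ∈ I := by
    by_contra h
    exact h1 h
  have h2 : x ∉ (CohB1.ProjSpace 1 k).basicOpen (dehom (lin j c) i) := by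
    have h3 := (Scheme.IdealSheafData.mem_support_iff_of_mem (I := hypIdeal (lin j c)) (x := x)
      (U := ⟨LefPen.chart 1 k i, isAffineOpen_chart i⟩) hi).1 hx
    rw [hypIdeal_ideal_of_le (lin j c) i ⟨LefPen.chart 1 k i, isAffineOpen_chart i⟩ le_rfl,
      Scheme.mem_zeroLocus_iff] at h3
    have h4 := h3 _ (Ideal.subset_span rfl)
    have h4b : ores (le_rfl : LefPen.chart 1 k i ≤ LefPen.chart 1 k i) (dehom (lin j c) i) = dehom (lin j c) i :=
      ores_refl _
    rwa [h4b] at h4
  have h5 : z ∉ (Spec (CommRingCat.of (MvPolynomial (Fin 1) k))).basicOpen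
      (((ProjSmooth.chart 1 k i).appLE (LefPen.chart 1 k i) ⊤ (top_le_preimage i)).hom
        (LefPen.dehom (lin j c) i)) := by
    intro h
    have h6 := Scheme.basicOpen_appLE (ProjSmooth.chart 1 k i) ⊤ (LefPen.chart 1 k i)
      (top_le_preimage i) (LefPen.dehom (lin j c) i)
    rw [h6] at h
    apply h2
    rw [← hz]
    exact h.2
  rw [chart_appLE_dehom] at h5
  have h7 : ProjChart.dehom 1 k i (lin j c).1 ∈ I := by
    by_contra h
    apply h5
    have h8 := basicOpen_eq_of_affine (R := CommRingCat.of (MvPolynomial (Fin 1) k))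
      (ProjChart.dehom 1 k i (lin j c).1)
    have h9 : z ∈ PrimeSpectrum.basicOpen (ProjChart.dehom 1 k i (lin j c).1) := h
    exact h8.symm ▸ h9
  have h10 : ProjChart.dehom 1 k i (lin j c).1 = 1 - MvPolynomial.C c * MvPolynomial.X 0 := by
    have h : (lin j c).1 = MvPolynomial.X (j.succAbove 0) - c • MvPolynomial.X j := rfl
    rw [h, MvPolynomial.smul_eq_C_mul, map_sub, map_mul, ProjChart.dehom_C, hi0, ProjChart.dehom_X_self,
      ← hj0, ProjChart.dehom_X]
  rw [h10] at h7
  have h11 : (1 : MvPolynomial (Fin 1) k) ∈ I := by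
    have := I.add_mem h7 (I.mul_mem_left (MvPolynomial.C c) h1')
    simpa using this
  exact hI.ne_top ((Ideal.eq_top_iff_one _).2 h11)

instance isSeparated_toSpec : IsSeparated (CohB1.ProjSpace.toSpec 1 k) := by
  have := Groth.Agent.Ega3B.ProjProper.isProper_toSpec 1 k
  infer_instance

instance isClosedImmersion_pt (j : Fin (1 + 1)) (c : k) : IsClosedImmersion (pt j c) := by
  have h : IsClosedImmersion (pt j c ≫ CohB1.ProjSpace.toSpec 1 k) := by
    rw [pt_toSpec]; infer_instance
  exact IsClosedImmersion.of_comp (pt j c) (CohB1.ProjSpace.toSpec 1 k)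

theorem pt_appLE_polyToChart (j : Fin (1 + 1)) (c : k) (e : ⊤ ≤ (pt j c) ⁻¹ᵁ (LefPen.chart 1 k j))
    (p : MvPolynomial (Fin 1) k) :
    ((pt j c).appLE (LefPen.chart 1 k j) ⊤ e).hom (polyToChart j p) =
      (Scheme.ΓSpecIso (CommRingCat.of k)).inv.hom (MvPolynomial.eval (fun _ : Fin 1 => c) p) := by
  have h2 := Scheme.Hom.appLE_comp_appLE
    (Spec.map (CommRingCat.ofHom (MvPolynomial.eval (fun _ : Fin 1 => c)))) (ProjSmooth.chart 1 k j)
    (LefPen.chart 1 k j) ⊤ ⊤ (top_le_preimage j) le_top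
  have h3 : (pt j c).appLE (LefPen.chart 1 k j) ⊤ e = _ := h2.symm
  rw [h3]
  change ((Spec.map (CommRingCat.ofHom (MvPolynomial.eval (fun _ : Fin 1 => c)))).appLE ⊤ ⊤ le_top).hom
    (((ProjSmooth.chart 1 k j).appLE (LefPen.chart 1 k j) ⊤ (top_le_preimage j)).hom (polyToChart j p)) = _
  rw [chart_appLE_polyToChart]
  have h4 := Scheme.ΓSpecIso_inv_naturality (CommRingCat.ofHom (MvPolynomial.eval (fun _ : Fin 1 => c)))
  exact congr($(h4.symm).hom p)

theorem top_le_pt (j : Fin (1 + 1)) (c : k) : ⊤ ≤ (pt j c) ⁻¹ᵁ (LefPen.chart 1 k j) := by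
  have h : (pt j c) ⁻¹ᵁ (LefPen.chart 1 k j) =
      (Spec.map (CommRingCat.ofHom (MvPolynomial.eval (fun _ : Fin 1 => c)))) ⁻¹ᵁ
        ((ProjSmooth.chart 1 k j) ⁻¹ᵁ (LefPen.chart 1 k j)) := rfl
  rw [h, top_le_iff.1 (top_le_preimage (r := 1) (k := k) j)]
  exact le_rfl

theorem hypIdeal_le_ker (j : Fin (1 + 1)) (c : k) : hypIdeal (lin j c) ≤ (pt j c).ker := by
  rw [← Scheme.IdealSheafData.map_bot, Scheme.IdealSheafData.le_map_iff_comap_le]
  apply Scheme.IdealSheafData.le_of_isAffine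
  rw [ideal_comap _ (pt j c) ⟨LefPen.chart 1 k j, isAffineOpen_chart j⟩ ⟨⊤, isAffineOpen_top _⟩ (top_le_pt j c),
    hypIdeal_ideal_of_le (lin j c) j ⟨LefPen.chart 1 k j, isAffineOpen_chart j⟩ le_rfl, Ideal.map_span,
    Set.image_singleton, Ideal.span_le, Set.singleton_subset_iff]
  have h4b : ores (le_rfl : LefPen.chart 1 k j ≤ LefPen.chart 1 k j) (dehom (lin j c) j) = dehom (lin j c) j :=
      ores_refl _
  rw [h4b, dehom_eq, dehom_lin_val, pt_appLE_polyToChart]
  simp

theorem range_subset (j : Fin (1 + 1)) (c : k) :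
    Set.range (hypIdeal (lin j c)).subschemeι ⊆ Set.range (ProjSmooth.chart 1 k j) := by
  rw [Scheme.IdealSheafData.range_subschemeι]
  intro x hx
  have h1 : x ∈ (ProjSmooth.chart 1 k j).opensRange := by
    rw [ProjSmooth.opensRange_chart]
    exact mem_chart_of_mem_support j c x hx
  exact h1

/-- The lift of the closed subscheme to the chart. -/
noncomputable def liftChart (j : Fin (1 + 1)) (c : k) :
    (hypIdeal (lin j c)).subscheme ⟶ Spec (CommRingCat.of (MvPolynomial (Fin 1) k)) :=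
  IsOpenImmersion.lift (ProjSmooth.chart 1 k j) (hypIdeal (lin j c)).subschemeι (range_subset j c)

theorem liftChart_fac (j : Fin (1 + 1)) (c : k) :
    liftChart j c ≫ ProjSmooth.chart 1 k j = (hypIdeal (lin j c)).subschemeι :=
  IsOpenImmersion.lift_fac _ _ _

theorem liftChart_appTop_C (j : Fin (1 + 1)) (c a : k) :
    (liftChart j c).appTop.hom ((Scheme.ΓSpecIso (CommRingCat.of (MvPolynomial (Fin 1) k))).inv.hom
      (MvPolynomial.C a)) =
    ((hypIdeal (lin j c)).subschemeι ≫ CohB1.ProjSpace.toSpec 1 k).appTop.hom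
      ((Scheme.ΓSpecIso (CommRingCat.of k)).inv.hom a) := by
  have h1 : (hypIdeal (lin j c)).subschemeι ≫ CohB1.ProjSpace.toSpec 1 k =
      liftChart j c ≫ Spec.map (CommRingCat.ofHom (MvPolynomial.C : k →+* MvPolynomial (Fin 1) k)) := by
    rw [← liftChart_fac, Category.assoc, ProjSmooth.chart_toSpec]
  rw [h1, Scheme.Hom.comp_appTop]
  have h4 := Scheme.ΓSpecIso_inv_naturality (CommRingCat.ofHom (MvPolynomial.C : k →+* MvPolynomial (Fin 1) k))
  have h5 := congr($(h4).hom a)
  exact congrArg (liftChart j c).appTop.hom h5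

theorem top_le_liftChart (j : Fin (1 + 1)) (c : k) :
    (⊤ : (hypIdeal (lin j c)).subscheme.Opens) ≤
      (liftChart j c ≫ ProjSmooth.chart 1 k j) ⁻¹ᵁ (LefPen.chart 1 k j) := by
  have h : (liftChart j c ≫ ProjSmooth.chart 1 k j) ⁻¹ᵁ (LefPen.chart 1 k j) =
      (liftChart j c) ⁻¹ᵁ ((ProjSmooth.chart 1 k j) ⁻¹ᵁ (LefPen.chart 1 k j)) := rfl
  rw [h, top_le_iff.1 (top_le_preimage (r := 1) (k := k) j)]
  exact le_rfl

theorem liftChart_appTop_X (j : Fin (1 + 1)) (c : k) :
    (liftChart j c).appTop.hom ((Scheme.ΓSpecIso (CommRingCat.of (MvPolynomial (Fin 1) k))).inv.hom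
      (MvPolynomial.X 0 - MvPolynomial.C c)) = 0 := by
  rw [← dehom_lin_val j c, ← chart_appLE_dehom]
  have h2 := Scheme.Hom.appLE_comp_appLE (liftChart j c) (ProjSmooth.chart 1 k j)
    (LefPen.chart 1 k j) ⊤ ⊤ (top_le_preimage j) le_top
  have h3 : (liftChart j c ≫ ProjSmooth.chart 1 k j).appLE (LefPen.chart 1 k j) ⊤
      (top_le_liftChart j c) = _ := h2.symm
  have h4 := congr($(h3).hom (LefPen.dehom (lin j c) j))
  have h5 : ((liftChart j c ≫ ProjSmooth.chart 1 k j).appLE (LefPen.chart 1 k j) ⊤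
      (top_le_liftChart j c)).hom (LefPen.dehom (lin j c) j) = 0 := by
    have h6 : LefPen.dehom (lin j c) j ∈ (hypIdeal (lin j c)).ideal ⟨LefPen.chart 1 k j, isAffineOpen_chart j⟩ := by
      rw [hypIdeal_ideal_of_le (lin j c) j ⟨LefPen.chart 1 k j, isAffineOpen_chart j⟩ le_rfl]
      have h4b : ores (le_rfl : LefPen.chart 1 k j ≤ LefPen.chart 1 k j) (dehom (lin j c) j) =
        dehom (lin j c) j := ores_refl _
      rw [h4b]
      exact Ideal.subset_span rfl
    have h7 : LefPen.dehom (lin j c) j ∈ RingHom.ker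
        ((hypIdeal (lin j c)).subschemeι.app (LefPen.chart 1 k j)).hom := by
      have := Scheme.IdealSheafData.ker_subschemeι_app (hypIdeal (lin j c))
        ⟨LefPen.chart 1 k j, isAffineOpen_chart j⟩
      rw [this]
      exact h6
    rw [RingHom.mem_ker] at h7
    have h8 : ∀ (f : (hypIdeal (lin j c)).subscheme ⟶ CohB1.ProjSpace 1 k)
      (_ : f = (hypIdeal (lin j c)).subschemeι) (e : ⊤ ≤ f ⁻¹ᵁ (LefPen.chart 1 k j)),
      (f.appLE (LefPen.chart 1 k j) ⊤ e).hom (LefPen.dehom (lin j c) j) = 0 := by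
      rintro f rfl e
      rw [Scheme.Hom.appLE, CommRingCat.hom_comp, RingHom.comp_apply, h7, map_zero]
    exact h8 _ (liftChart_fac j c) _
  have h9 : (liftChart j c).appLE ⊤ ⊤ le_top = (liftChart j c).appTop := Scheme.Hom.appLE_eq_app _
  rw [← h9]
  exact h4.symm.trans h5

theorem liftChart_eq (j : Fin (1 + 1)) (c : k) :
    liftChart j c = ((hypIdeal (lin j c)).subschemeι ≫ CohB1.ProjSpace.toSpec 1 k) ≫
      Spec.map (CommRingCat.ofHom (MvPolynomial.eval (fun _ : Fin 1 => c))) := by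
  apply ext_of_isAffine
  rw [← cancel_epi (Scheme.ΓSpecIso (CommRingCat.of (MvPolynomial (Fin 1) k))).inv]
  apply CommRingCat.hom_ext
  have h4 := Scheme.ΓSpecIso_inv_naturality (CommRingCat.ofHom (MvPolynomial.eval (fun _ : Fin 1 => c)))
  have key : ∀ p : MvPolynomial (Fin 1) k,
      ((((hypIdeal (lin j c)).subschemeι ≫ CohB1.ProjSpace.toSpec 1 k) ≫
      Spec.map (CommRingCat.ofHom (MvPolynomial.eval (fun _ : Fin 1 => c)))).appTop).hom
        ((Scheme.ΓSpecIso (CommRingCat.of (MvPolynomial (Fin 1) k))).inv.hom p) =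
      ((hypIdeal (lin j c)).subschemeι ≫ CohB1.ProjSpace.toSpec 1 k).appTop.hom
        ((Scheme.ΓSpecIso (CommRingCat.of k)).inv.hom (MvPolynomial.eval (fun _ : Fin 1 => c) p)) := by
    intro p
    rw [Scheme.Hom.comp_appTop]
    exact congrArg ((hypIdeal (lin j c)).subschemeι ≫ CohB1.ProjSpace.toSpec 1 k).appTop.hom
      (congr($(h4.symm).hom p))
  apply MvPolynomial.ringHom_ext
  · intro a
    refine (liftChart_appTop_C j c a).trans ?_
    refine Eq.trans ?_ (key _).symm
    rw [MvPolynomial.eval_C]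
  · intro i
    have hi : i = 0 := Subsingleton.elim _ _
    subst hi
    have h5 := liftChart_appTop_X j c
    rw [map_sub, map_sub, sub_eq_zero, liftChart_appTop_C] at h5
    refine h5.trans ?_
    refine Eq.trans ?_ (key _).symm
    rw [MvPolynomial.eval_X]

theorem ker_pt (j : Fin (1 + 1)) (c : k) : (pt j c).ker = hypIdeal (lin j c) := by
  refine le_antisymm ?_ (hypIdeal_le_ker j c)
  have h : (hypIdeal (lin j c)).subschemeι =
      ((hypIdeal (lin j c)).subschemeι ≫ CohB1.ProjSpace.toSpec 1 k) ≫ pt j c := by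
    rw [pt, ← Category.assoc, ← liftChart_eq, liftChart_fac]
  have h2 := Scheme.Hom.le_ker_comp ((hypIdeal (lin j c)).subschemeι ≫ CohB1.ProjSpace.toSpec 1 k) (pt j c)
  rw [← h, Scheme.IdealSheafData.ker_subschemeι] at h2
  exact h2

/-- **The fibre over a rational point.** -/
theorem isPullback_pt (j : Fin (1 + 1)) (c : k) {Y : Scheme.{u}} (f : Y ⟶ CohB1.ProjSpace 1 k) :
    IsPullback ((hypIdeal (lin j c)).comap f).subschemeι
      (((hypIdeal (lin j c)).comap f).subschemeι ≫ f ≫ CohB1.ProjSpace.toSpec 1 k) f (pt j c) := by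
  have h1 : (pt j c).ker ≤ (((hypIdeal (lin j c)).comap f).subschemeι ≫ f).ker := by
    rw [ker_pt, ← Scheme.IdealSheafData.map_ker, Scheme.IdealSheafData.ker_subschemeι]
    exact Scheme.IdealSheafData.le_map_comap _ _
  have h2 := IsClosedImmersion.lift_fac (pt j c) (((hypIdeal (lin j c)).comap f).subschemeι ≫ f) h1
  have h3 : IsClosedImmersion.lift (pt j c) (((hypIdeal (lin j c)).comap f).subschemeι ≫ f) h1 =
      ((hypIdeal (lin j c)).comap f).subschemeι ≫ f ≫ CohB1.ProjSpace.toSpec 1 k := by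
    have h4 := congrArg (· ≫ CohB1.ProjSpace.toSpec 1 k) h2
    rw [Category.assoc, Category.assoc, pt_toSpec, Category.comp_id] at h4
    exact h4
  rw [h3] at h2
  refine isPullback_of_isClosedImmersion _ _ _ _ h2.symm ?_
  rw [ker_pt, Scheme.IdealSheafData.ker_subschemeι]

end Groth.Agent.Lefpen.H723.P1Pt
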