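import Groth.Agent.Etcore.HQ
import Groth.Agent.Etcore.HC
import Groth.Agent.Etcore.HpullEq
import Groth.Prelude.Def_LefMon

/-!
# Action on the cohomology of a constant sheaf of an automorphism over a base

`HC_eq_self`: if `τ` acts trivially on `H^n(X₀, i⁻¹ M_X)` then it acts trivially on `H^n(X₀, M)`;
`Hmap_eq`: `EtAdic.Hmap` is `HC`.
-/

set_option autoImplicit false
universe u
open CategoryTheory CategoryTheory.Limits AlgebraicGeometry Opposite Abelian
open scoped Groth.Agent.Etcore.EtInst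
open Groth.Agent.Etcore.EtInst

namespace Groth.Agent.Lefpen.H723.ConstAct

open Groth.Agent.Etcore Groth.Agent.Etcore.HpullCalc Groth.Agent.Etcore.PullCoh Groth.Agent.Etcore.HQ
open Groth.Agent.Etcore.HC

attribute [local instance] pfl

theorem HC_eq_self {X X₀ : Scheme.{u}} (M : Type) [AddCommGroup M] (i : X₀ ⟶ X) (τ : X₀ ⟶ X₀)
    (hτ : τ ≫ i = i) (n : ℕ) (h : ∀ y : HQ (EtCoh.const X M) i n, res (EtCoh.const X M) τ hτ n y = y)
    (x : HH X₀ (EtCoh.const X₀ M) n) : HC.HC M τ n x = x := by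
  obtain ⟨y, rfl⟩ := (HHmap_bijective (EtCore.pullConst i M).hom n).2 x
  have h1 : (EtCoh.pull τ).map (EtCore.pullConst i M).hom ≫ (EtCore.pullConst τ M).hom =
      th τ i i hτ (EtCoh.const X M) ≫ (EtCore.pullConst i M).hom := pullConst_comp τ i i hτ M
  rw [HC.HC, hpl_map, h1, hpl_apply, HHmap_comp]
  have h2 := h y
  rw [res_apply] at h2
  rw [h2]

theorem Hmap_eq {X Y : Scheme.{u}} (ℓ : ℕ) (f : Y ⟶ X) (hf : PreservesFiniteLimits (EtCoh.pull f)) (i ν : ℕ)
    (x : HH X (EtCoh.const X (ZMod (ℓ ^ ν))) i) :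
    EtAdic.Hmap ℓ f hf i ν x = HC.HC (ZMod (ℓ ^ ν)) f i x := rfl

end Groth.Agent.Lefpen.H723.ConstAct
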