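import Groth.Agent.CohtopB.RPushExt
import Groth.Agent.Sga4B.DualWBasic
import Groth.Agent.Etbase.EtSite
import Groth.Agent.Sga4A.PbcAb

/-!
# `R^n f_* F` is the étale sheaf associated to `V ↦ Ext^n(ℤ[V ×_Y X], F)`

* `homPreZ`: `Hom(ℤ[U], F) = F(U)`;
* `rIso`: the isomorphism;
* `exists_edge`: the edge maps `Ext^n(ℤ[V ×_Y X], F) ⟶ Γ(V, R^n f_* F)`: natural in `V`, locally injective and locally
  surjective.
-/

set_option autoImplicit false
universe u
open CategoryTheory CategoryTheory.Limits CategoryTheory.Abelian AlgebraicGeometry Opposite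
open Groth.Agent.EtpbcA Groth.Agent.Sga4B.DualShape Groth.Agent.CohtopB

namespace Groth.Agent.Lefpen.H723.Edge

noncomputable section

variable {X Y : Scheme.{u}}

/-- Homomorphisms out of `ℤ[U]` are sections over `U`. -/
def homEquiv (U : X.Etale) (F : EtCoh.Ab X) : (ZS U ⟶ F) ≃+ EtCoh.sect F U where
  toFun φ := φ.hom.app (op U) (Jshriek.univ U ℤ 1)
  invFun s := Jshriek.lift U (zmultiplesHom _ s)
  left_inv φ := by
    apply Groth.Agent.Sga4B.DualWBasic.hom_ext_int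
    exact (Jshriek.lift_univ _ _ _).trans (one_zsmul _)
  right_inv s := (Jshriek.lift_univ _ _ _).trans (one_zsmul _)
  map_add' _ _ := rfl

/-- `Hom(ℤ[U], F) = F(U)`, naturally. -/
def homPreZ (X : Scheme.{u}) : ExtRD.homPre (JF X ℤ) ≅
    sheafToPresheaf X.smallEtaleTopology AddCommGrpCat.{u + 1} :=
  NatIso.ofComponents (fun F => NatIso.ofComponents
    (fun U => (homEquiv U.unop F).toAddCommGrpIso) (fun {U V} f => by
      ext x
      change (ZSmap f.unop ≫ x).hom.app (op V.unop) (Jshriek.univ V.unop ℤ 1) =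
        F.obj.map f (x.hom.app (op U.unop) (Jshriek.univ U.unop ℤ 1))
      have h1 : (ZSmap f.unop).hom.app (op V.unop) (Jshriek.univ V.unop ℤ 1) =
        (ZS U.unop).obj.map f.unop.op (Jshriek.univ U.unop ℤ 1) := jMap_univ ℤ f.unop 1
      refine Eq.trans (congrArg (x.hom.app (op V.unop)) h1) ?_
      exact Groth.Agent.Sga4A.PbcAb.app_map_sect x f.unop _)) (fun {F G} g => by
      ext U x
      rfl)

/-- Sections over `V` of `V ↦ Ext^n(ℤ[V ×_Y X], F)`. -/
abbrev pre (f : X ⟶ Y) (F : EtCoh.Ab X) (n : ℕ) : Y.Etaleᵒᵖ ⥤ AddCommGrpCat.{u + 1} :=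
  (EtCoh.bc f).op ⋙ (ExtRD.extPre (JF X ℤ) n).obj F

/-- The higher direct image as an associated sheaf. -/
def rIso (f : X ⟶ Y) (F : EtCoh.Ab X) (n : ℕ) : (EtCoh.Rpush f n).obj F ≅
    (presheafToSheaf Y.smallEtaleTopology AddCommGrpCat.{u + 1}).obj (pre f F n) :=
  (RPushExt.rpushIso X.smallEtaleTopology Y.smallEtaleTopology (EtCoh.bc f) (JF X ℤ) (homPreZ X) n).app F

theorem pre_map_apply (f : X ⟶ Y) (F : EtCoh.Ab X) (n : ℕ) {V V' : Y.Etale} (k : V' ⟶ V)
    (x : Ext.{u + 1} (ZS ((EtCoh.bc f).obj V)) F n) :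
    (pre f F n).map k.op x = (Ext.mk₀ (ZSmap ((EtCoh.bc f).map k))).comp x (zero_add n) := rfl

/-- The unit of the sheafification. -/
theorem exists_unit (f : X ⟶ Y) (F : EtCoh.Ab X) (n : ℕ) :
    ∃ t : pre f F n ⟶ ((EtCoh.Rpush f n).obj F).obj, Presheaf.IsLocallyInjective Y.smallEtaleTopology t ∧
      Presheaf.IsLocallySurjective Y.smallEtaleTopology t := by
  have hiso : IsIso (rIso f F n).inv.hom := inferInstance
  exact ⟨toSheafify Y.smallEtaleTopology (pre f F n) ≫ (rIso f F n).inv.hom, inferInstance, inferInstance⟩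

theorem edge_of_unit (f : X ⟶ Y) (F : EtCoh.Ab X) (n : ℕ) (G : EtCoh.Ab Y) (t : pre f F n ⟶ G.obj)
    (hinj : Presheaf.IsLocallyInjective Y.smallEtaleTopology t)
    (hsurj : Presheaf.IsLocallySurjective Y.smallEtaleTopology t) :
    ∃ e : ∀ V : Y.Etale, Ext.{u + 1} (ZS ((EtCoh.bc f).obj V)) F n →+ EtCoh.sect G V,
      (∀ {V V' : Y.Etale} (k : V' ⟶ V) (x : Ext.{u + 1} (ZS ((EtCoh.bc f).obj V)) F n),
        G.obj.map k.op (e V x) =
          e V' ((Ext.mk₀ (ZSmap ((EtCoh.bc f).map k))).comp x (zero_add n))) ∧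
      (∀ (V : Y.Etale) (x : Ext.{u + 1} (ZS ((EtCoh.bc f).obj V)) F n), e V x = 0 → ∀ v : V.left,
        ∃ (V' : Y.Etale) (k : V' ⟶ V) (v' : V'.left), k.left v' = v ∧
          (Ext.mk₀ (ZSmap ((EtCoh.bc f).map k))).comp x (zero_add n) = 0) ∧
      (∀ (V : Y.Etale) (s : EtCoh.sect G V) (v : V.left),
        ∃ (V' : Y.Etale) (k : V' ⟶ V) (v' : V'.left), k.left v' = v ∧
          ∃ x, e V' x = G.obj.map k.op s) := by
  refine ⟨fun V => (t.app (op V)).hom, ?_, ?_, ?_⟩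
  · intro V V' k x
    have h := ConcreteCategory.congr_hom (t.naturality k.op) x
    exact h.symm
  · intro V x hx v
    have h := Presheaf.equalizerSieve_mem Y.smallEtaleTopology t (X := op V) x 0 (hx.trans (map_zero _).symm)
    obtain ⟨V', k, v', hk, hv⟩ := (Groth.Agent.Etbase.EtSite.mem_iff V _).1 h v
    refine ⟨V', k, v', hv, ?_⟩
    exact hk.trans (map_zero _)
  · intro V s v
    have h := Presheaf.imageSieve_mem Y.smallEtaleTopology t s
    obtain ⟨V', k, v', ⟨x, hk⟩, hv⟩ := (Groth.Agent.Etbase.EtSite.mem_iff V _).1 h v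
    exact ⟨V', k, v', hv, x, hk⟩

/-- **Edge maps.** -/
theorem exists_edge (f : X ⟶ Y) (F : EtCoh.Ab X) (n : ℕ) :
    ∃ e : ∀ V : Y.Etale, Ext.{u + 1} (ZS ((EtCoh.bc f).obj V)) F n →+
        EtCoh.sect ((EtCoh.Rpush f n).obj F) V,
      (∀ {V V' : Y.Etale} (k : V' ⟶ V) (x : Ext.{u + 1} (ZS ((EtCoh.bc f).obj V)) F n),
        ((EtCoh.Rpush f n).obj F).obj.map k.op (e V x) =
          e V' ((Ext.mk₀ (ZSmap ((EtCoh.bc f).map k))).comp x (zero_add n))) ∧
      (∀ (V : Y.Etale) (x : Ext.{u + 1} (ZS ((EtCoh.bc f).obj V)) F n), e V x = 0 → ∀ v : V.left,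
        ∃ (V' : Y.Etale) (k : V' ⟶ V) (v' : V'.left), k.left v' = v ∧
          (Ext.mk₀ (ZSmap ((EtCoh.bc f).map k))).comp x (zero_add n) = 0) ∧
      (∀ (V : Y.Etale) (s : EtCoh.sect ((EtCoh.Rpush f n).obj F) V) (v : V.left),
        ∃ (V' : Y.Etale) (k : V' ⟶ V) (v' : V'.left), k.left v' = v ∧
          ∃ x, e V' x = ((EtCoh.Rpush f n).obj F).obj.map k.op s) := by
  obtain ⟨t, h1, h2⟩ := exists_unit f F n
  exact edge_of_unit f F n _ t h1 h2

end

end Groth.Agent.Lefpen.H723.Edge
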