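import Groth.Agent.Lefpen.H723.TwoPoint
import Groth.Agent.Lefpen.H723.ConstAct
import Groth.Agent.Lefpen.H723.SplitSec
import Groth.Agent.Lefpen.H723.P1Simply
import Groth.Agent.Etrest.ConstBasic
import Groth.Agent.Etcore.FEtH1
import Groth.Agent.S3097

/-!
# The monodromy of a smooth proper family over the projective line is trivial

`HC_galAct`: `k` algebraically closed, `ρ : X' ⟶ P^1_k` proper and smooth, `N` invertible in `k`, `Ω ⊇ k(t)` separably
closed: `Aut(Ω/k(t))` acts trivially on `H^q(X'_Ω, Z/N)`.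
-/

set_option autoImplicit false
universe u
open CategoryTheory CategoryTheory.Limits AlgebraicGeometry Opposite Abelian
open scoped Groth.Agent.Etcore.EtInst
open Groth.Agent.Etcore.EtInst

namespace Groth.Agent.Lefpen.H723.Mono

open Groth.Agent.Etcore Groth.Agent.Etcore.HQ

attribute [local instance] pfl

variable {k : Type u} [Field k] [IsAlgClosed k]

omit [IsAlgClosed k] in
theorem isUnit_P1 (N : ℕ) (hN : (N : k) ≠ 0) : IsUnit (N : Γ(CohB1.ProjSpace 1 k, ⊤)) := by
  have h := (isUnit_iff_ne_zero.2 hN).map (Coh.toGlobal (CohB1.ProjSpace.toSpec 1 k))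
  rwa [map_natCast] at h

/-- The monodromy of a smooth proper family over the projective line is trivial. -/
theorem HC_galAct {X' : Scheme.{u}} (ρ : X' ⟶ CohB1.ProjSpace 1 k) [IsProper ρ] [Smooth ρ]
    (N : ℕ) (hN : (N : k) ≠ 0) (q : ℕ) (Ω : Type u) [Field Ω] [Algebra (RatFunc k) Ω] [IsSepClosed Ω]
    (σ : Ω ≃ₐ[RatFunc k] Ω) (x : HH (LefMon.geomFibre k ρ Ω) (EtCoh.const _ (ZMod N)) q) :
    HC.HC (ZMod N) (LefMon.galAct k ρ Ω σ) q x = x := by
  have hN0 : 0 < N := by
    rcases Nat.eq_zero_or_pos N with h | h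
    · subst h; simp at hN
    · exact h
  have : NeZero N := ⟨hN0.ne'⟩
  have hkill : EtCoh.KilledBy N (EtCoh.const X' (ZMod N)) :=
    Groth.Agent.Etcore.FEtH1.killedBy_const X' (ZMod N) N (fun m => by simp)
  have hG := Groth.Agent.S3097.result ρ N (isUnit_P1 N hN) (EtCoh.const X' (ZMod N))
    (Groth.Agent.Etrest.ConstBasic.isFiniteLocallyConstant_const X' (ZMod N)) hkill q
  have hloc : TwoPoint.LocGlobal ((EtCoh.Rpush ρ q).obj (EtCoh.const X' (ZMod N))) := fun V s v =>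
    SplitSec.exists_global (P1Simply.isSplit k) _ hG V s v
  have hτ : LefMon.galAct k ρ Ω σ ≫ pullback.fst ρ (LefMon.geomGenPt k Ω) =
      pullback.fst ρ (LefMon.geomGenPt k Ω) := by
    rw [LefMon.galAct, pullback.map, pullback.lift_fst, Category.comp_id]
  have hτa : LefMon.galAct k ρ Ω σ ≫ pullback.snd ρ (LefMon.geomGenPt k Ω) =
      pullback.snd ρ (LefMon.geomGenPt k Ω) ≫ Spec.map (CommRingCat.ofHom (σ : Ω →+* Ω)) := by
    rw [LefMon.galAct, pullback.map, pullback.lift_snd]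
  have hτ₀ : Spec.map (CommRingCat.ofHom (σ : Ω →+* Ω)) ≫ LefMon.geomGenPt k Ω = LefMon.geomGenPt k Ω := by
    rw [LefMon.geomGenPt, ← Category.assoc, SGA7.spec_map_algEquiv_comp]
  refine ConstAct.HC_eq_self (ZMod N) (pullback.fst ρ (LefMon.geomGenPt k Ω)) (LefMon.galAct k ρ Ω σ) hτ q
    (fun y => ?_) x
  exact TwoPoint.res_eq_self ρ (LefMon.geomGenPt k Ω) (pullback.snd ρ (LefMon.geomGenPt k Ω))
    (pullback.fst ρ (LefMon.geomGenPt k Ω)) (IsPullback.of_hasPullback _ _) (EtCoh.const X' (ZMod N))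
    (Groth.Agent.Sga4B.JFComp.isTorsion_of_killedBy hN0 hkill) q hloc _ hτ₀ _ hτ hτa y

end Groth.Agent.Lefpen.H723.Mono
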