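import Groth.Agent.Lefpen.H723.P1Flat
import Mathlib.RingTheory.Nullstellensatz
import Mathlib.AlgebraicGeometry.Noetherian

/-!
# Closed points of the projective line over an algebraically closed field

`exists_mem_support`: every closed point of `P^1_k` lies on `T_1 = c T_0` for some `c`, or on `T_0 = 0`.
-/

set_option autoImplicit false
universe u
open CategoryTheory AlgebraicGeometry Limits TopologicalSpace Opposite

namespace Groth.Agent.Lefpen.H723.P1Closed

open LefPen Groth.Agent.Divis.IdealComap Groth.Agent.Fdesc.LocGen Groth.Agent.Lefpen.H705.HypIdeal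
open Groth.Agent.Lefpen.H705.SecIdeal Groth.Agent.Lefpen.H705.ChartPoly
open Groth.Agent.Sga5 Groth.Agent.Lefpen.H723.P1Pt

variable {k : Type u} [Field k]

theorem chart_mem_support_iff {r d : ℕ} (j : Fin (r + 1)) (G : Form r k d)
    (z : Spec (CommRingCat.of (MvPolynomial (Fin r) k))) :
    ProjSmooth.chart r k j z ∈ (hypIdeal G).support ↔
      ProjChart.dehom r k j G.1 ∈ (PrimeSpectrum.asIdeal z : Ideal (MvPolynomial (Fin r) k)) := by
  have hz : ProjSmooth.chart r k j z ∈ LefPen.chart r k j := by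
    have : ProjSmooth.chart r k j z ∈ (ProjSmooth.chart r k j).opensRange := ⟨z, rfl⟩
    rwa [ProjSmooth.opensRange_chart] at this
  have h4b : ores (le_rfl : LefPen.chart r k j ≤ LefPen.chart r k j) (LefPen.dehom G j) = LefPen.dehom G j :=
    ores_refl _
  have h1 : ProjSmooth.chart r k j z ∈ (hypIdeal G).support ↔
      ProjSmooth.chart r k j z ∉ (CohB1.ProjSpace r k).basicOpen (LefPen.dehom G j) := by
    rw [Scheme.IdealSheafData.mem_support_iff_of_mem (I := hypIdeal G)
      (U := ⟨LefPen.chart r k j, isAffineOpen_chart j⟩) hz,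
      hypIdeal_ideal_of_le G j ⟨LefPen.chart r k j, isAffineOpen_chart j⟩ le_rfl, h4b,
      Scheme.zeroLocus_span, Scheme.mem_zeroLocus_iff]
    simp
  rw [h1]
  have h6 := Scheme.basicOpen_appLE (ProjSmooth.chart r k j) ⊤ (LefPen.chart r k j)
      (top_le_preimage j) (LefPen.dehom G j)
  have h6' := chart_appLE_dehom G j
  have h8 := basicOpen_eq_of_affine (R := CommRingCat.of (MvPolynomial (Fin r) k))
      (ProjChart.dehom r k j G.1)
  have h9 : (ProjSmooth.chart r k j) ⁻¹ᵁ ((CohB1.ProjSpace r k).basicOpen (LefPen.dehom G j)) =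
      PrimeSpectrum.basicOpen (ProjChart.dehom r k j G.1) := by
    rw [← h8]
    refine Eq.trans ?_ (h6.symm.trans ?_)
    · rw [top_inf_eq]
    · exact congrArg _ h6'
  have h10 : ProjSmooth.chart r k j z ∈ (CohB1.ProjSpace r k).basicOpen (LefPen.dehom G j) ↔
      z ∈ PrimeSpectrum.basicOpen (ProjChart.dehom r k j G.1) := by
    rw [← h9]
    rfl
  rw [h10]
  exact not_not

variable [IsAlgClosed k]

theorem exists_mem_of_isMaximal (I : Ideal (MvPolynomial (Fin 1) k)) [hI : I.IsMaximal] :
    ∃ c : k, MvPolynomial.X 0 - MvPolynomial.C c ∈ I := by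
  obtain ⟨x, hx⟩ := MvPolynomial.isMaximal_iff_eq_vanishingIdeal_singleton.1 hI
  refine ⟨x 0, ?_⟩
  rw [hx]
  rw [MvPolynomial.mem_vanishingIdeal_singleton_iff]
  simp

/-- Every closed point lies on a line through the chart `0`, or on `T_0 = 0`. -/
theorem exists_mem_support (p : CohB1.ProjSpace 1 k) (hp : IsClosed ({p} : Set (CohB1.ProjSpace 1 k))) :
    (∃ c : k, p ∈ (hypIdeal (LefMon.line k c)).support) ∨ p ∈ (hypIdeal (LefMon.lineInf k)).support := by
  by_cases h0 : p ∈ LefPen.chart 1 k 0
  · left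
    have h1 : p ∈ (ProjSmooth.chart 1 k 0).opensRange := by
      rw [ProjSmooth.opensRange_chart]; exact h0
    obtain ⟨z, rfl⟩ := h1
    have hz : IsClosed ({z} : Set (Spec (CommRingCat.of (MvPolynomial (Fin 1) k)))) := by
      have h2 := hp.preimage (ProjSmooth.chart 1 k 0).continuous
      have h3 : (ProjSmooth.chart 1 k 0) ⁻¹' {ProjSmooth.chart 1 k 0 z} = {z} := by
        ext w
        simp only [Set.mem_preimage, Set.mem_singleton_iff]
        exact (ProjSmooth.chart 1 k 0).isOpenEmbedding.injective.eq_iff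
      rwa [h3] at h2
    have hmax : (PrimeSpectrum.asIdeal z : Ideal (MvPolynomial (Fin 1) k)).IsMaximal :=
      (PrimeSpectrum.isClosed_singleton_iff_isMaximal _).1 hz
    obtain ⟨c, hc⟩ := exists_mem_of_isMaximal (PrimeSpectrum.asIdeal z : Ideal (MvPolynomial (Fin 1) k))
    refine ⟨c, ?_⟩
    rw [line_eq, chart_mem_support_iff, dehom_lin_val]
    exact hc
  · right
    obtain ⟨i, hi⟩ := Groth.Agent.PerfB.ProjSpaceCover.exists_mem_basicOpen_X 1 k p
    have hi1 : i = 1 := by
      by_contra h
      have : i = 0 := by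
        revert h
        fin_cases i <;> simp
      exact h0 (this ▸ hi)
    subst hi1
    have h1 : p ∈ (ProjSmooth.chart 1 k 1).opensRange := by
      rw [ProjSmooth.opensRange_chart]; exact hi
    obtain ⟨z, rfl⟩ := h1
    rw [lineInf_eq, chart_mem_support_iff, dehom_lin_val]
    rw [map_zero, sub_zero]
    by_contra h
    apply h0
    have h2 := chart_preimage (k := k) 1 0 rfl
    have h3 : z ∈ PrimeSpectrum.basicOpen (MvPolynomial.X 0 : MvPolynomial (Fin 1) k) := h
    have h4 : z ∈ (ProjSmooth.chart 1 k 1) ⁻¹ᵁ (LefPen.chart 1 k 0) := h2.symm ▸ h3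
    exact h4

end Groth.Agent.Lefpen.H723.P1Closed
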