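import Groth.Agent.Lefpen.H723.P1Closed
import Groth.Agent.Flat2C.BlowProper
import Groth.Agent.Sga4B.RelDimUnique
import Groth.Agent.Etcore.SmoothRed
import Groth.Agent.S2348
import Groth.Agent.Smoothlim.SmoothLocusBC
import Groth.Agent.Sga4h.BidGeoP1

/-!
# Geometry of the total space of a pencil of hypersurface sections

`X` smooth irreducible of dimension `n ≥ 1` embedded in `P^r_k` by `i`, `(F, G)` a pencil of forms with transversal
base locus, `(b, ρ)` its total space (`LefMon.IsPencilFibration i F G b ρ`).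

* `isIntegral_base`, `isIntegral_total`, `b_genericPoint`, `isProper_b`, `isProper_rho`;
* `isPullback_line`, `isPullback_lineInf`: the fibres of `ρ` at the rational points of `P^1_k`.
-/

set_option autoImplicit false
universe u
open CategoryTheory AlgebraicGeometry Limits TopologicalSpace Opposite

namespace Groth.Agent.Lefpen.H723.PencilGeom

open LefPen Groth.Agent.Lefpen.H723.P1Pt

section Base

variable {k : Type u} [Field k] {r n : ℕ} {X : Scheme.{u}} (i : X ⟶ CohB1.ProjSpace r k)

theorem isReduced_base [SmoothOfRelativeDimension n (i ≫ CohB1.ProjSpace.toSpec r k)] : IsReduced X := by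
  have : Smooth (i ≫ CohB1.ProjSpace.toSpec r k) := SmoothOfRelativeDimension.smooth n _
  exact Groth.Agent.Etcore.SmoothRed.isReduced_of_smooth (i ≫ CohB1.ProjSpace.toSpec r k)

theorem isIntegral_base [IrreducibleSpace X] [SmoothOfRelativeDimension n (i ≫ CohB1.ProjSpace.toSpec r k)] :
    IsIntegral X := by
  have := isReduced_base (n := n) i
  exact isIntegral_of_irreducibleSpace_of_isReduced X

/-- A transversal section of positive codimension is not everything. -/
theorem secIdeal_ne_bot [Nonempty X] [SmoothOfRelativeDimension n (i ≫ CohB1.ProjSpace.toSpec r k)]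
    {d : ℕ} (s : Set (Form r k d)) (c : ℕ) (hc : 1 ≤ c) (h : Transversal k n c (secToSpec i s)) :
    secIdeal i s ≠ ⊥ := by
  intro h0
  have h1 : IsIso (secι i s) := (Scheme.isIso_subschemeι_iff_eq_bot _).2 h0
  have h2 : Nonempty (Sec i s) := ⟨(inv (secι i s)) (Classical.arbitrary X)⟩
  rcases h with ⟨hcn, h⟩ | ⟨_, h⟩
  · have h3 : SmoothOfRelativeDimension (n - c) (i ≫ CohB1.ProjSpace.toSpec r k) := by
      have h4 : i ≫ CohB1.ProjSpace.toSpec r k = inv (secι i s) ≫ secToSpec i s := by
        rw [secToSpec, IsIso.inv_hom_id_assoc]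
      rw [h4]
      have := (MorphismProperty.cancel_left_of_respectsIso (@SmoothOfRelativeDimension (n - c))
        (inv (secι i s)) (secToSpec i s)).2 h
      exact this
    have h5 := Groth.Agent.Sga4B.RelDimUnique.eq_of_smoothOfRelativeDimension
      (i ≫ CohB1.ProjSpace.toSpec r k) n (n - c) inferInstance h3
    omega
  · exact h.false h2.some

theorem isLocallyNoetherian_base [IsClosedImmersion i] : IsLocallyNoetherian X := by
  have := Groth.Agent.Ega3B.ProjProper.isProper_toSpec r k
  exact LocallyOfFiniteType.isLocallyNoetherian (i ≫ CohB1.ProjSpace.toSpec r k)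

theorem isFiniteTypeIdeal [IsClosedImmersion i] (I : X.IdealSheafData) : BlowUp.IsFiniteTypeIdeal I := by
  have := isLocallyNoetherian_base i
  intro U
  have : IsNoetherianRing Γ(X, U.1) := IsLocallyNoetherian.component_noetherian U
  exact IsNoetherian.noetherian _

end Base

section Pencil

variable {k : Type u} [Field k] {r n d : ℕ} {X X' : Scheme.{u}} {i : X ⟶ CohB1.ProjSpace r k}
  {F G : Form r k d} {b : X' ⟶ X} {ρ : X' ⟶ CohB1.ProjSpace 1 k}

theorem isProper_b [IsClosedImmersion i] (hρ : LefMon.IsPencilFibration i F G b ρ) : IsProper b :=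
  Groth.Agent.Flat2C.BlowProper.isProper_of_isBlowUp hρ.1 (isFiniteTypeIdeal i _)

theorem isProper_rho [IsClosedImmersion i] (hρ : LefMon.IsPencilFibration i F G b ρ) : IsProper ρ := by
  have h1 := isProper_b hρ
  have h2 := Groth.Agent.Ega3B.ProjProper.isProper_toSpec r k
  have h3 := Groth.Agent.Ega3B.ProjProper.isProper_toSpec 1 k
  have h4 : IsProper (ρ ≫ CohB1.ProjSpace.toSpec 1 k) := by
    rw [hρ.2.1]
    infer_instance
  exact IsProper.of_comp ρ (CohB1.ProjSpace.toSpec 1 k)

variable [IrreducibleSpace X] [SmoothOfRelativeDimension n (i ≫ CohB1.ProjSpace.toSpec r k)]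

theorem isIntegral_total (hT : Transversal k n 2 (secToSpec i {F, G}))
    (hρ : LefMon.IsPencilFibration i F G b ρ) : IsIntegral X' := by
  have := isIntegral_base (n := n) i
  obtain ⟨h, -, -⟩ := Groth.Agent.S2348.result (secIdeal i {F, G}) (secIdeal_ne_bot i _ 2 (by norm_num) hT) b hρ.1
  exact h

theorem b_genericPoint (hT : Transversal k n 2 (secToSpec i {F, G}))
    (hρ : LefMon.IsPencilFibration i F G b ρ) [IsIntegral X'] : b (genericPoint X') = genericPoint X := by
  have := isIntegral_base (n := n) i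
  obtain ⟨_, h, -⟩ := Groth.Agent.S2348.result (secIdeal i {F, G}) (secIdeal_ne_bot i _ 2 (by norm_num) hT) b hρ.1
  exact h

omit [IrreducibleSpace X] [SmoothOfRelativeDimension n (i ≫ CohB1.ProjSpace.toSpec r k)] in
/-- The fibre of `ρ` at `t = c`. -/
theorem isPullback_line (hρ : LefMon.IsPencilFibration i F G b ρ) (c : k) :
    ∃ m : Sec i {F + c • G} ⟶ X', m ≫ b = secι i {F + c • G} ∧
      IsPullback m (secToSpec i {F + c • G}) ρ (LefMon.fieldPt k k c) := by
  have h := hρ.2.2.1 c
  rw [line_eq] at h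
  obtain ⟨e, he⟩ := h
  refine ⟨e.inv ≫ ((LefPen.hypIdeal (lin 0 c)).comap ρ).subschemeι, ?_, ?_⟩
  · rw [Category.assoc, ← he, e.inv_hom_id_assoc]
  · rw [fieldPt_eq]
    have h1 := isPullback_pt 0 c ρ
    refine IsPullback.of_iso h1 e (Iso.refl _) (Iso.refl _) (Iso.refl _) ?_ ?_ ?_ ?_
    · simp
    · rw [Iso.refl_hom, Category.comp_id, hρ.2.1, secToSpec, ← reassoc_of% he]
    · simp
    · simp

omit [IrreducibleSpace X] [SmoothOfRelativeDimension n (i ≫ CohB1.ProjSpace.toSpec r k)] in
/-- The fibre of `ρ` at `t = ∞`. -/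
theorem isPullback_lineInf (hρ : LefMon.IsPencilFibration i F G b ρ) :
    ∃ m : Sec i {G} ⟶ X', m ≫ b = secι i {G} ∧
      IsPullback m (secToSpec i {G}) ρ (pt 1 (0 : k)) := by
  have h := hρ.2.2.2
  rw [lineInf_eq] at h
  obtain ⟨e, he⟩ := h
  refine ⟨e.inv ≫ ((LefPen.hypIdeal (lin 1 (0 : k))).comap ρ).subschemeι, ?_, ?_⟩
  · rw [Category.assoc, ← he, e.inv_hom_id_assoc]
  · have h1 := isPullback_pt 1 (0 : k) ρ
    refine IsPullback.of_iso h1 e (Iso.refl _) (Iso.refl _) (Iso.refl _) ?_ ?_ ?_ ?_
    · simp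
    · rw [Iso.refl_hom, Category.comp_id, hρ.2.1, secToSpec, ← reassoc_of% he]
    · simp
    · simp

end Pencil

end Groth.Agent.Lefpen.H723.PencilGeom
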