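import Groth.Agent.Etcore.HQ
import Groth.Agent.Etcore.ExtAdj
import Groth.Agent.Sga4B.DualWBasic

/-!
# Restriction of classes in `Ext^n(ℤ[W], F)` to `W`-schemes

`rc F q t ht n x : HQ F q n` for `x : Ext (ℤ[W]) F n`, `q : Z ⟶ X` and `t : Z ⟶ W` over `X`.

* `res_rc`: pullback along `Z' ⟶ Z`; `rc_map`: change of `W`;
* `exists_rc_eq`: the class `fibRes` of `DiagM5` in terms of `rc`; on a geometric fibre of a proper morphism, every class
  is of the form `rc`.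
-/

set_option autoImplicit false
universe u
open CategoryTheory CategoryTheory.Limits AlgebraicGeometry Opposite Abelian
open scoped Groth.Agent.Etcore.EtInst
open Groth.Agent.Etcore.EtInst
open Groth.Agent.EtpbcA Groth.Agent.Sga4B.DualShape

namespace Groth.Agent.Lefpen.H723.ResCls

open Groth.Agent.Etcore Groth.Agent.Etcore.HpullCalc Groth.Agent.Etcore.PullCoh Groth.Agent.Etcore.HQ

attribute [local instance] pfl

variable {X : Scheme.{u}}

/-- The natural transformation `k⁻¹ q⁻¹ ⟶ q'⁻¹`. -/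
noncomputable def thT {Z Z' : Scheme.{u}} {q : Z ⟶ X} {q' : Z' ⟶ X} (k : Z' ⟶ Z) (h : k ≫ q = q') :
    EtCoh.pull q ⋙ EtCoh.pull k ⟶ EtCoh.pull q' where
  app F := th k q q' h F
  naturality _ _ φ := th_nat k q q' h φ

/-- Restriction is compatible with products with classes on `X`. -/
theorem res_comp {E F : EtCoh.Ab X} {Z Z' : Scheme.{u}} {q : Z ⟶ X} {q' : Z' ⟶ X} (k : Z' ⟶ Z)
    (h : k ≫ q = q') (n : ℕ) (α : HQ E q 0) (x : Ext.{u + 1} E F n) :
    res F k h n (Ext.comp α (x.mapExactFunctor (EtCoh.pull q)) (zero_add n)) =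
      Ext.comp (res E k h 0 α) (x.mapExactFunctor (EtCoh.pull q')) (zero_add n) := by
  have i1 : PreservesFiniteLimits (EtCoh.pull q ⋙ EtCoh.pull k) := comp_preservesFiniteLimits _ _
  have i2 : PreservesFiniteColimits (EtCoh.pull q ⋙ EtCoh.pull k) :=
    comp_preservesFiniteColimits _ _
  have h1 := ExtAdj.mapExactFunctor_nat (thT k h) x
  rw [ExtAdj.mapExactFunctor_compFunctor] at h1
  rw [res_apply, res_apply, hp_apply, hp_apply, HHmap_apply, HHmap_apply, Ext.mapExactFunctor_comp,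
    ← Ext.comp_assoc_of_second_deg_zero]
  generalize (Ext.mk₀ (EtCore.pullConst k ℤ).inv).comp (Ext.mapExactFunctor (EtCoh.pull k) α) _ = A
  rw [Ext.comp_assoc_of_third_deg_zero, Ext.comp_assoc_of_second_deg_zero]
  exact congrArg (fun t => A.comp t (zero_add n)) h1

/-- Functoriality in the sheaf and products. -/
theorem map_comp_mapExact {E E' F : EtCoh.Ab X} {Z : Scheme.{u}} (q : Z ⟶ X) (n : ℕ) (φ : E' ⟶ E)
    (α : HQ E' q 0) (x : Ext.{u + 1} E F n) :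
    Ext.comp α (((Ext.mk₀ φ).comp x (zero_add n)).mapExactFunctor (EtCoh.pull q)) (zero_add n) =
      Ext.comp (HQ.map φ q 0 α) (x.mapExactFunctor (EtCoh.pull q)) (zero_add n) := by
  rw [Ext.mapExactFunctor_comp, Ext.mapExactFunctor_mk₀, map_apply, HHmap_apply,
    Ext.comp_assoc_of_second_deg_zero]

/-- The restriction of the class `x ∈ Ext^n(ℤ[W], F)` along `t : Z ⟶ W`. -/
noncomputable def rc (F : EtCoh.Ab X) {Z : Scheme.{u}} (q : Z ⟶ X) {W : X.Etale} (t : Z ⟶ W.left)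
    (ht : t ≫ W.hom = q) (n : ℕ) (x : Ext.{u + 1} (ZS W) F n) : HQ F q n :=
  Ext.comp (HQ.sec (ZS W) q t ht (Jshriek.univ W ℤ 1)) (x.mapExactFunctor (EtCoh.pull q)) (zero_add n)

theorem rc_congr (F : EtCoh.Ab X) {Z : Scheme.{u}} (q : Z ⟶ X) {W : X.Etale} {t t' : Z ⟶ W.left} (e : t = t')
    (ht : t ≫ W.hom = q) (ht' : t' ≫ W.hom = q) (n : ℕ) (x : Ext.{u + 1} (ZS W) F n) :
    rc F q t ht n x = rc F q t' ht' n x := by
  subst e; rfl

theorem rc_zero (F : EtCoh.Ab X) {Z : Scheme.{u}} (q : Z ⟶ X) {W : X.Etale} (t : Z ⟶ W.left)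
    (ht : t ≫ W.hom = q) (n : ℕ) : rc F q t ht n 0 = 0 := by
  rw [rc, Ext.mapExactFunctor_zero, Ext.comp_zero]

theorem rc_sub (F : EtCoh.Ab X) {Z : Scheme.{u}} (q : Z ⟶ X) {W : X.Etale} (t : Z ⟶ W.left)
    (ht : t ≫ W.hom = q) (n : ℕ) (x y : Ext.{u + 1} (ZS W) F n) :
    rc F q t ht n (x - y) = rc F q t ht n x - rc F q t ht n y := by
  rw [eq_sub_iff_add_eq, rc, rc, ← Ext.comp_add, ← Ext.mapExactFunctor_add, sub_add_cancel, rc]

/-- Pullback of a restricted class. -/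
theorem res_rc (F : EtCoh.Ab X) {Z Z' : Scheme.{u}} {q : Z ⟶ X} {q' : Z' ⟶ X} (k : Z' ⟶ Z)
    (h : k ≫ q = q') {W : X.Etale} (t : Z ⟶ W.left) (ht : t ≫ W.hom = q) (t' : Z' ⟶ W.left)
    (ht' : t' ≫ W.hom = q') (e : k ≫ t = t') (n : ℕ) (x : Ext.{u + 1} (ZS W) F n) :
    res F k h n (rc F q t ht n x) = rc F q' t' ht' n x := by
  rw [rc, res_comp, res_sec (ZS W) k h t ht t' ht' e]
  rfl

/-- Change of `W`. -/
theorem rc_map (F : EtCoh.Ab X) {Z : Scheme.{u}} (q : Z ⟶ X) {W W' : X.Etale} (g : W' ⟶ W) (t' : Z ⟶ W'.left)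
    (ht' : t' ≫ W'.hom = q) (t : Z ⟶ W.left) (ht : t ≫ W.hom = q) (e : t' ≫ g.left = t) (n : ℕ)
    (x : Ext.{u + 1} (ZS W) F n) :
    rc F q t' ht' n ((Ext.mk₀ (ZSmap g)).comp x (zero_add n)) = rc F q t ht n x := by
  rw [rc, map_comp_mapExact, map_sec]
  have h1 : (ZSmap g).hom.app (op W') (Jshriek.univ W' ℤ 1) =
      (ZS W).obj.map g.op (Jshriek.univ W ℤ 1) := jMap_univ ℤ g 1
  rw [h1, sec_res (ZS W) q t' ht' g t ht e]
  rfl

end Groth.Agent.Lefpen.H723.ResCls
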