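import Groth.Agent.Lefpen.H723.ResCls
import Groth.Agent.Sga4B.DiagM5

/-!
# Classes on a geometric fibre of a proper morphism

`exists_rc_eq`: `f : X ⟶ Y` proper, `ξ : Spec Ω ⟶ Y` a geometric point with fibre `i : X₀ ⟶ X`, `G` torsion: every class
of `H^m(X₀, i⁻¹ G)` is the restriction of a class in `Ext^m(ℤ[U ×_Y X], G)`, `U` an étale neighbourhood of `ξ`.
-/

set_option backward.isDefEq.respectTransparency false
set_option backward.isDefEq.respectTransparency.types false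
set_option autoImplicit false
universe u
open CategoryTheory CategoryTheory.Limits AlgebraicGeometry Opposite Abelian
open scoped Groth.Agent.Etcore.EtInst
open Groth.Agent.Etcore.EtInst
open Groth.Agent.EtpbcA Groth.Agent.Sga4B.DualShape

namespace Groth.Agent.Lefpen.H723.ResFib

open Groth.Agent.Etcore Groth.Agent.Etcore.HpullCalc Groth.Agent.Etcore.PullCoh Groth.Agent.Etcore.HQ
open Groth.Agent.Sga4B Groth.Agent.Sga4B.DiagM5 ResCls

attribute [local instance] pfl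

variable {X Y X₀ : Scheme.{u}} (f : X ⟶ Y) {Ω : Type u} [Field Ω] (ξ : Spec (.of Ω) ⟶ Y)
  (a : X₀ ⟶ Spec (.of Ω)) (i : X₀ ⟶ X)

theorem topIso_inv_cst (Z : Scheme.{u}) :
    (JFComp.topIso ℤ Z).inv.hom.app (op (EtCoh.top Z)) (cst Z ℤ (ULift.up 1)) =
      Jshriek.univ (EtCoh.top Z) ℤ 1 := by
  have h1 := JFComp.topIso_hom_univ (X := Z) (M := ℤ) 1
  have h2 := congrArg ((JFComp.topIso ℤ Z).inv.hom.app (op (EtCoh.top Z))) h1
  refine h2.symm.trans ?_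
  exact congrArg (fun (b : ZS (EtCoh.top Z) ⟶ ZS (EtCoh.top Z)) => b.hom.app (op (EtCoh.top Z))
    (Jshriek.univ (EtCoh.top Z) ℤ 1)) (JFComp.topIso ℤ Z).hom_inv_id

theorem mk₀_zfib (w : i ≫ f = a ≫ ξ) {U : Y.Etale} (l : Spec (.of Ω) ⟶ U.left) (hl : l ≫ U.hom = ξ) :
    (Ext.mk₀ ((JFComp.topIso ℤ X₀).inv ≫ zfib f ξ a i w l hl) : HH X₀ _ 0) =
      HQ.sec (ZS ((EtCoh.bc f).obj U)) i (secInc f ξ a i w l hl) (secInc_hom f ξ a i w l hl)
        (Jshriek.univ ((EtCoh.bc f).obj U) ℤ 1) := by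
  apply (H0 X₀ _).injective
  rw [H0_mk₀, H0_sec]
  rw [Adjunction.homEquiv_unit]
  have h1 : ((zfib f ξ a i w l hl)).hom.app (op (EtCoh.top X₀)) (Jshriek.univ (EtCoh.top X₀) ℤ 1) =
      ((EtCoh.pull i).obj (ZS ((EtCoh.bc f).obj U))).obj.map (DiagM5.sec f ξ a i w l hl).op
        (Groth.Agent.Sga4A.FreeAbEt.unitA i (ZS ((EtCoh.bc f).obj U)) ((EtCoh.bc f).obj U)
          (Jshriek.univ ((EtCoh.bc f).obj U) ℤ 1)) := by
    have h := zeta_ev i (DiagM5.sec f ξ a i w l hl) (𝟙 (ZS ((EtCoh.bc f).obj U)))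
    rw [CategoryTheory.Functor.map_id, Category.comp_id] at h
    exact h
  refine Eq.trans ?_ h1
  exact congrArg ((zfib f ξ a i w l hl).hom.app (op (EtCoh.top X₀))) (topIso_inv_cst X₀)

theorem exists_rc_eq [IsSepClosed Ω] [IsProper f] (h : IsPullback i a f ξ) {G : EtCoh.Ab X}
    (hG : EtCoh.IsTorsion G) {m : ℕ} (e : HQ G i m) :
    ∃ (U : Y.Etale) (l : Spec (.of Ω) ⟶ U.left) (hl : l ≫ U.hom = ξ)
      (δ : Ext.{u + 1} (ZS ((EtCoh.bc f).obj U)) G m),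
      rc G i (secInc f ξ a i h.w l hl) (secInc_hom f ξ a i h.w l hl) m δ = e := by
  obtain ⟨U, l, hl, δ, hδ⟩ := exists_extension f ξ a i h hG
    ((Ext.mk₀ (JFComp.topIso ℤ X₀).hom).comp e (zero_add m))
  refine ⟨U, l, hl, δ, ?_⟩
  have h2 := congrArg (fun t => (Ext.mk₀ (JFComp.topIso ℤ X₀).inv).comp t (zero_add m)) hδ
  simp only [fibRes, Ext.mk₀_comp_mk₀_assoc, Iso.inv_hom_id, Ext.mk₀_id_comp] at h2
  rw [rc, ← mk₀_zfib]
  exact h2

end Groth.Agent.Lefpen.H723.ResFib
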