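import Groth.Agent.Lefpen.H723.ResFib
import Groth.Agent.Lefpen.H723.Edge

/-!
# Automorphisms of a geometric fibre over the base act trivially if `R^n f_* F` is constant

`res_eq_self`: `f : X ⟶ Y` proper, `F` torsion, every section of `R^n f_* F` locally the restriction of a global section
(`LocGlobal`); `ξ` a geometric point of `Y`, `i : X₀ ⟶ X` the fibre, `τ₀` an automorphism of `ξ` over `Y` and `τ` the
automorphism of `X₀` over it: then `τ` acts trivially on `H^n(X₀, i⁻¹ F)`.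
-/

set_option autoImplicit false
universe u
open CategoryTheory CategoryTheory.Limits AlgebraicGeometry Opposite Abelian
open scoped Groth.Agent.Etcore.EtInst
open Groth.Agent.Etcore.EtInst
open Groth.Agent.EtpbcA Groth.Agent.Sga4B.DualShape

namespace Groth.Agent.Lefpen.H723.TwoPoint

open Groth.Agent.Etcore Groth.Agent.Etcore.HQ
open Groth.Agent.Sga4B.DiagM5 ResCls ResFib

attribute [local instance] pfl

/-- Every section of `G` is locally the restriction of a global section. -/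
def LocGlobal {Y : Scheme.{u}} (G : EtCoh.Ab Y) : Prop :=
  ∀ (V : Y.Etale) (s : EtCoh.sect G V) (v : V.left), ∃ (V' : Y.Etale) (k : V' ⟶ V) (v' : V'.left)
    (_ : k.left v' = v) (g : EtCoh.sect G (EtCoh.top Y)) (t : V' ⟶ EtCoh.top Y),
    G.obj.map k.op s = G.obj.map t.op g

variable {X Y X₀ : Scheme.{u}} (f : X ⟶ Y) {Ω : Type u} [Field Ω] [IsSepClosed Ω]
  (ξ : Spec (.of Ω) ⟶ Y) (a : X₀ ⟶ Spec (.of Ω)) (i : X₀ ⟶ X)

/-- Lifting a geometric point along a morphism of étale schemes. -/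
theorem exists_lift {U V : Y.Etale} (k : V ⟶ U) (l : Spec (.of Ω) ⟶ U.left) (hl : l ≫ U.hom = ξ)
    (v : V.left) (hv : k.left v = l default) :
    ∃ l' : Spec (.of Ω) ⟶ V.left, l' ≫ k.left = l ∧ l' ≫ V.hom = ξ := by
  obtain ⟨l', h1, -⟩ := Scheme.exists_fac_of_etale_of_isSepClosed k.left l v hv
  refine ⟨l', h1, ?_⟩
  have h2 : k.left ≫ U.hom = V.hom := Over.w k.hom
  rw [← h2, ← Category.assoc, h1, hl]

theorem secInc_map (w : i ≫ f = a ≫ ξ) {U V : Y.Etale} (k : V ⟶ U) (l : Spec (.of Ω) ⟶ U.left)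
    (hl : l ≫ U.hom = ξ) (l' : Spec (.of Ω) ⟶ V.left) (hl' : l' ≫ V.hom = ξ) (h : l' ≫ k.left = l) :
    secInc f ξ a i w l' hl' ≫ ((EtCoh.bc f).map k).left = secInc f ξ a i w l hl := by
  apply Groth.Agent.Sga4A.EtStalk.hom_ext_bc
  · rw [Category.assoc, Groth.Agent.Sga4A.EtStalk.bc_map_fst, ← Category.assoc, secInc_fst,
      secInc_fst, Category.assoc, h]
  · rw [Category.assoc, Groth.Agent.Sga4A.EtStalk.bc_map_hom, secInc_hom, secInc_hom]

/-- The product of `U` with itself over `Y`. -/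
noncomputable def sqr (U : Y.Etale) : Y.Etale :=
  have h1 : Etale U.hom := U.prop
  Scheme.Etale.mk (pullback.fst U.hom U.hom ≫ U.hom)

/-- First projection. -/
noncomputable def sqrFst (U : Y.Etale) : sqr U ⟶ U :=
  MorphismProperty.Over.homMk (pullback.fst U.hom U.hom) rfl trivial

/-- Second projection. -/
noncomputable def sqrSnd (U : Y.Etale) : sqr U ⟶ U :=
  MorphismProperty.Over.homMk (pullback.snd U.hom U.hom) pullback.condition.symm trivial

/-- **Two-point argument.** -/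
theorem res_eq_self [IsProper f] (h : IsPullback i a f ξ) (F : EtCoh.Ab X) (hF : EtCoh.IsTorsion F) (n : ℕ)
    (hG : LocGlobal ((EtCoh.Rpush f n).obj F)) (τ₀ : Spec (.of Ω) ⟶ Spec (.of Ω)) (hτ₀ : τ₀ ≫ ξ = ξ)
    (τ : X₀ ⟶ X₀) (hτ : τ ≫ i = i) (hτa : τ ≫ a = a ≫ τ₀) (x : HQ F i n) :
    res F τ hτ n x = x := by
  obtain ⟨e, he1, he2, -⟩ := Edge.exists_edge f F n
  obtain ⟨U₀, l₀, hl₀, δ₀, rfl⟩ := exists_rc_eq f ξ a i h hF x
  obtain ⟨U, k, v', hv', g, t, hg⟩ := hG U₀ (e U₀ δ₀) (l₀ default)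
  obtain ⟨l, hlk, hl⟩ := exists_lift ξ k l₀ hl₀ v' hv'
  let δ : Ext.{u + 1} (ZS ((EtCoh.bc f).obj U)) F n :=
    (Ext.mk₀ (ZSmap ((EtCoh.bc f).map k))).comp δ₀ (zero_add n)
  have hδ : e U δ = ((EtCoh.Rpush f n).obj F).obj.map t.op g := by
    rw [← hg, he1]
  have hx : rc F i (secInc f ξ a i h.w l₀ hl₀) (secInc_hom f ξ a i h.w l₀ hl₀) n δ₀ =
      rc F i (secInc f ξ a i h.w l hl) (secInc_hom f ξ a i h.w l hl) n δ :=
    (rc_map F i ((EtCoh.bc f).map k) _ _ _ _ (secInc_map f ξ a i h.w k l₀ hl₀ l hl hlk) n δ₀).symm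
  rw [hx]
  clear_value δ
  -- the second point
  have hl2 : (τ₀ ≫ l) ≫ U.hom = ξ := by rw [Category.assoc, hl, hτ₀]
  have hτl : τ ≫ secInc f ξ a i h.w l hl = secInc f ξ a i h.w (τ₀ ≫ l) hl2 := by
    apply Groth.Agent.Sga4A.EtStalk.hom_ext_bc
    · rw [Category.assoc, secInc_fst, secInc_fst, ← Category.assoc, hτa, Category.assoc]
    · rw [Category.assoc, secInc_hom, secInc_hom, hτ]
  rw [res_rc F τ hτ _ _ _ (secInc_hom f ξ a i h.w (τ₀ ≫ l) hl2) hτl]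
  let d : Ext.{u + 1} (ZS ((EtCoh.bc f).obj (sqr U))) F n :=
    (Ext.mk₀ (ZSmap ((EtCoh.bc f).map (sqrSnd U)))).comp δ (zero_add n) -
      (Ext.mk₀ (ZSmap ((EtCoh.bc f).map (sqrFst U)))).comp δ (zero_add n)
  have ht : sqrSnd U ≫ t = sqrFst U ≫ t := (EtCore.topIsTerminal Y).hom_ext _ _
  have hd : e (sqr U) d = 0 := by
    rw [map_sub, ← he1 (sqrSnd U) δ, ← he1 (sqrFst U) δ, hδ, Groth.Agent.Sga4A.PbcAb.map_map_sect,
      Groth.Agent.Sga4A.PbcAb.map_map_sect, ht, sub_self]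
  let lP : Spec (.of Ω) ⟶ (sqr U).left := pullback.lift l (τ₀ ≫ l) (by rw [hl, hl2])
  have hP1 : lP ≫ (sqrFst U).left = l := pullback.lift_fst _ _ _
  have hP2 : lP ≫ (sqrSnd U).left = τ₀ ≫ l := pullback.lift_snd _ _ _
  have hlP : lP ≫ (sqr U).hom = ξ := by
    have h1 : (sqrFst U).left ≫ U.hom = (sqr U).hom := rfl
    rw [← h1, ← Category.assoc, hP1, hl]
  obtain ⟨V, k', v, hv, hd0⟩ := he2 (sqr U) d hd (lP default)
  obtain ⟨l', hl'k, hl'⟩ := exists_lift ξ k' lP hlP v hv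
  have h0 : rc F i (secInc f ξ a i h.w lP hlP) (secInc_hom f ξ a i h.w lP hlP) n d = 0 := by
    rw [← rc_map F i ((EtCoh.bc f).map k') _ (secInc_hom f ξ a i h.w l' hl') _ _
      (secInc_map f ξ a i h.w k' lP hlP l' hl' hl'k) n d, hd0, rc_zero]
  rw [rc_sub, rc_map F i ((EtCoh.bc f).map (sqrSnd U)) _ _ _ (secInc_hom f ξ a i h.w (τ₀ ≫ l) hl2)
      (secInc_map f ξ a i h.w (sqrSnd U) (τ₀ ≫ l) hl2 lP hlP hP2) n δ,
    rc_map F i ((EtCoh.bc f).map (sqrFst U)) _ _ _ (secInc_hom f ξ a i h.w l hl)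
      (secInc_map f ξ a i h.w (sqrFst U) l hl lP hlP hP1) n δ, sub_eq_zero] at h0
  exact h0

end Groth.Agent.Lefpen.H723.TwoPoint
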